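import Groth.Agent.Resolve.K67.IntBC
import Groth.Prelude.Def_Curv2
import Groth.Prelude.Def_FEt
import Groth.Agent.CurvesC.ModDim
import Groth.Agent.CurvesC.Modif
import Groth.Agent.Resolve.K374.PtFib
import Groth.Agent.S0543
import Groth.Agent.S0547
import Mathlib.RingTheory.AdicCompletion.LocalRing

/-!
# The base change to the completion of a modification

`A` a Noetherian local normal domain of dimension two whose completion `Â` is a domain, `f : Y ⟶ Spec A` a
modification: `Y ×_A Â` is integral and `Y ×_A Â ⟶ Spec Â` is an isomorphism over the punctured spectrum.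
-/

set_option autoImplicit false
universe u

open CategoryTheory CategoryTheory.Limits AlgebraicGeometry TopologicalSpace Opposite IsLocalRing

namespace K67.CplInt

open Groth.Agent Groth.Agent.CurvesC.Modif

theorem mem_basicOpen_iff {A : Type u} [CommRing A] (t : A) (x : Spec (CommRingCat.of A)) :
    x ∈ (Spec (CommRingCat.of A)).basicOpen ((Scheme.ΓSpecIso (CommRingCat.of A)).inv t) ↔ t ∉ x.asIdeal := by
  have h2 : (Spec (CommRingCat.of A)).basicOpen ((Scheme.ΓSpecIso (CommRingCat.of A)).inv t) =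
      PrimeSpectrum.basicOpen ((Scheme.ΓSpecIso (CommRingCat.of A)).hom
        ((Scheme.ΓSpecIso (CommRingCat.of A)).inv t)) := basicOpen_eq_of_affine' _
  have h3 : (Scheme.ΓSpecIso (CommRingCat.of A)).hom ((Scheme.ΓSpecIso (CommRingCat.of A)).inv t) = t := by simp
  rw [h3] at h2
  rw [h2]
  rfl

theorem basicOpen_le_punctured {A : Type u} [CommRing A] [IsLocalRing A] {t : A} (ht : t ∈ maximalIdeal A) :
    (Spec (CommRingCat.of A)).basicOpen ((Scheme.ΓSpecIso (CommRingCat.of A)).inv t) ≤ FEt.puncturedSpec A := by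
  intro x hx hx'
  rw [mem_basicOpen_iff] at hx
  apply hx
  have h1 : x = closedPoint A := hx'
  rw [h1]
  exact ht

theorem exists_mem_ne_zero {A : Type u} [CommRing A] [IsLocalRing A] [IsDomain A] (hdim : ringKrullDim A = 2) :
    ∃ t ∈ maximalIdeal A, t ≠ 0 := by
  by_contra hcon
  push Not at hcon
  have h1 : maximalIdeal A = ⊥ := by
    rw [eq_bot_iff]
    intro x hx
    exact hcon x hx
  have h2 : IsField A := (IsLocalRing.isField_iff_maximalIdeal_eq).mpr h1
  rw [ringKrullDim_eq_zero_of_isField h2] at hdim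
  exact absurd hdim (by decide)

section

variable (A : Type u) [CommRing A] [IsLocalRing A] [IsNoetherianRing A]

/-- The map of spectra of the completion. -/
noncomputable abbrev gcpl : Spec (CommRingCat.of (Curv2.cpl A)) ⟶ Spec (CommRingCat.of A) :=
  Spec.map (CommRingCat.ofHom (algebraMap A (Curv2.cpl A)))

theorem injective_algebraMap : Function.Injective (algebraMap A (Curv2.cpl A)) := by
  haveI : IsNoetherianRing (Curv2.cpl A) := Groth.Agent.S0543.result A (maximalIdeal A)
  haveI : Module.FaithfullyFlat A (Curv2.cpl A) := Module.FaithfullyFlat.of_flat_of_isLocalHom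
  exact FaithfulSMul.algebraMap_injective A (Curv2.cpl A)

theorem preimage_punctured : gcpl A ⁻¹ᵁ FEt.puncturedSpec A = FEt.puncturedSpec (Curv2.cpl A) := by
  ext x
  change (PrimeSpectrum.comap (algebraMap A (Curv2.cpl A)) x ≠ closedPoint A) ↔ x ≠ closedPoint (Curv2.cpl A)
  rw [not_iff_not]
  constructor
  · intro h
    apply PrimeSpectrum.ext
    have h1 : maximalIdeal A ≤ x.asIdeal.comap (algebraMap A (Curv2.cpl A)) := by
      have h2 : x.asIdeal.comap (algebraMap A (Curv2.cpl A)) = maximalIdeal A := congrArg PrimeSpectrum.asIdeal h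
      rw [h2]
    have h3 : maximalIdeal (Curv2.cpl A) ≤ x.asIdeal := by
      rw [AdicCompletion.maximalIdeal_eq_map]
      exact Ideal.map_le_iff_le_comap.mpr h1
    exact ((maximalIdeal.isMaximal (Curv2.cpl A)).eq_of_le x.isPrime.ne_top h3).symm
  · rintro rfl
    exact comap_closedPoint (algebraMap A (Curv2.cpl A))

instance flat_gcpl : Flat (gcpl A) :=
  Flat.SpecMap_iff.2 (RingHom.flat_algebraMap_iff.2 inferInstance)

variable {Y : Scheme.{u}} (f : Y ⟶ Spec (CommRingCat.of A))

theorem isPullback_bcCpl : IsPullback (Curv2.bcCplFst A f) (Curv2.bcCplSnd A f) f (gcpl A) :=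
  IsPullback.of_hasPullback _ _

theorem isIso_bcCplSnd_punctured (h : IsIso (f ∣_ FEt.puncturedSpec A)) :
    IsIso (Curv2.bcCplSnd A f ∣_ FEt.puncturedSpec (Curv2.cpl A)) := by
  have h1 := K67.IntBC.isIso_base (isPullback_bcCpl A f) _ h
  rwa [preimage_punctured] at h1

end

section

variable (A : Type u) [CommRing A] [IsDomain A] [IsLocalRing A] [IsNoetherianRing A]
  (hdim : ringKrullDim A = 2) [IsDomain (Curv2.cpl A)] {Y : Scheme.{u}} (f : Y ⟶ Spec (CommRingCat.of A))

include hdim

theorem isIntegral_bcCpl [IsIntegral Y] [Surjective f] (hp : IsIso (f ∣_ FEt.puncturedSpec A)) :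
    IsIntegral (Curv2.bcCpl A f) := by
  obtain ⟨t, htm, ht0⟩ := exists_mem_ne_zero hdim
  let t' : Γ(Spec (CommRingCat.of A), ⊤) := (Scheme.ΓSpecIso (CommRingCat.of A)).inv t
  have hiso : IsIso (f ∣_ (Spec (CommRingCat.of A)).basicOpen t') :=
    Groth.Agent.CurvesC.ModDim.isIso_morphismRestrict_of_le f (basicOpen_le_punctured htm)
  have ht1 : f.appTop t' ≠ 0 := by
    intro h0
    have h1 : (Y.basicOpen (f.appTop t')) = ⊥ := by rw [h0]; exact Scheme.basicOpen_zero _ _
    rw [← Scheme.preimage_basicOpen_top] at h1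
    obtain ⟨y, hy⟩ := f.surjective (⟨⊥, Ideal.isPrime_bot⟩ : PrimeSpectrum A)
    have h2 : y ∈ f ⁻¹ᵁ (Spec (CommRingCat.of A)).basicOpen t' := by
      change f y ∈ (Spec (CommRingCat.of A)).basicOpen t'
      rw [hy, mem_basicOpen_iff]
      exact ht0
    rw [h1] at h2
    exact h2
  have ht2 : (gcpl A).appTop t' ≠ 0 := by
    have h1 : (gcpl A).appTop t' =
        (Scheme.ΓSpecIso (CommRingCat.of (Curv2.cpl A))).inv (algebraMap A (Curv2.cpl A) t) :=
      (ConcreteCategory.congr_hom (Scheme.ΓSpecIso_inv_naturality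
        (CommRingCat.ofHom (algebraMap A (Curv2.cpl A)))) t).symm
    rw [h1]
    intro h0
    apply ht0
    apply injective_algebraMap A
    rw [map_zero]
    apply (ConcreteCategory.bijective_of_isIso (Scheme.ΓSpecIso (CommRingCat.of (Curv2.cpl A))).inv).1
    rw [map_zero]
    exact h0
  exact K67.IntBC.isIntegral_of_isPullback (isPullback_bcCpl A f) t' ht1 ht2 hiso

/-- The base change to the completion of a modification is a modification. -/
theorem isModif_bcCplSnd [IsIntegrallyClosed A] (hf : IsModif f) :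
    IsModif (Curv2.bcCplSnd A f) ∧ IsIso (Curv2.bcCplSnd A f ∣_ FEt.puncturedSpec (Curv2.cpl A)) := by
  haveI := hf.proper
  haveI := hf.integral
  haveI := hf.surjective
  have hp : IsIso (f ∣_ FEt.puncturedSpec A) := K374.PtFib.isIso_punctured f hdim hf.exists_isIso
  have h1 := isIso_bcCplSnd_punctured A f hp
  refine ⟨⟨inferInstance, isIntegral_bcCpl A hdim f hp, FEt.puncturedSpec (Curv2.cpl A), ?_, h1⟩, h1⟩
  refine ⟨(⟨⊥, Ideal.isPrime_bot⟩ : PrimeSpectrum (Curv2.cpl A)), ?_⟩
  intro h0
  obtain ⟨t, htm, ht0⟩ := exists_mem_ne_zero hdim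
  apply ht0
  apply injective_algebraMap A
  rw [map_zero]
  have h2 : (⊥ : Ideal (Curv2.cpl A)) = maximalIdeal (Curv2.cpl A) := congrArg PrimeSpectrum.asIdeal h0
  have h3 : algebraMap A (Curv2.cpl A) t ∈ maximalIdeal (Curv2.cpl A) := map_nonunit (algebraMap A (Curv2.cpl A)) t htm
  rw [← h2] at h3
  exact h3

end

end K67.CplInt
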