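import Groth.Prelude.Def_Pi1
import Groth.Agent.Resolve.K67.CplInt
import Groth.Agent.CurvesC.RegCompl
import Groth.Agent.CalgA.SerreCrit
import Groth.Agent.S0601

/-!
# The base change of a normal modification to a normal completion is normal

`A` a Noetherian local normal domain of dimension two with normal completion `Â`, `f : Y ⟶ Spec A` a normal
modification: `Y ×_A Â` is an integral normal scheme and `Y ×_A Â ⟶ Spec Â` is a modification.
-/

set_option autoImplicit false
universe u

open CategoryTheory CategoryTheory.Limits AlgebraicGeometry TopologicalSpace Opposite IsLocalRing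

namespace K67.CplNormal

open Groth.Agent Groth.Agent.CurvesC.Modif Groth.Agent.CalgA

section Alg

/-- `(R_1)` and `(S_2)` at the closed point of a local ring. -/
def LocS (R : Type u) [CommRing R] [IsLocalRing R] : Prop :=
  (ringKrullDim R ≤ 1 → IsRegularLocalRing R) ∧ (¬ ringKrullDim R ≤ 1 → 2 ≤ LocCoh.depth R R)

theorem locS_of_normal (R : Type u) [CommRing R] [IsLocalRing R] [IsNoetherianRing R] [IsDomain R]
    [IsIntegrallyClosed R] : LocS R :=
  ⟨SerreLocal.isRegularLocalRing_of_isIntegrallyClosed, SerreLocal.two_le_depth_of_isIntegrallyClosed⟩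

theorem two_le_depth_of_flat (R S : Type u) [CommRing R] [CommRing S] [IsLocalRing R] [IsLocalRing S]
    [Algebra R S] [IsLocalHom (algebraMap R S)] [Module.Flat R S] (h : 2 ≤ LocCoh.depth R R) :
    2 ≤ LocCoh.depth S S := by
  rw [DepthSmall.two_le_depth_iff] at h ⊢
  obtain ⟨x, hx, y, hy, hxy⟩ := h
  exact ⟨algebraMap R S x, map_nonunit (algebraMap R S) x hx, algebraMap R S y,
    map_nonunit (algebraMap R S) y hy, hxy.of_flat⟩

theorem locS_congr {R S : Type u} [CommRing R] [CommRing S] [IsLocalRing R] [IsLocalRing S] (e : R ≃+* S)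
    (h : LocS R) : LocS S := by
  have h1 := ringKrullDim_eq_of_ringEquiv e
  refine ⟨fun h2 => ?_, fun h2 => ?_⟩
  · haveI := h.1 (by rwa [h1])
    exact IsRegularLocalRing.of_ringEquiv e
  · rw [← DepthSmall.depth_ringEquiv e]
    exact h.2 (by rwa [h1])

theorem ringKrullDim_eq_of_flat (R S : Type u) [CommRing R] [IsLocalRing R] [IsNoetherianRing R] [CommRing S]
    [IsLocalRing S] [IsNoetherianRing S] [Algebra R S] [Module.Flat R S]
    (hm : (maximalIdeal R).map (algebraMap R S) = maximalIdeal S) : ringKrullDim S = ringKrullDim R := by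
  have hloc : IsLocalHom (algebraMap R S) :=
    ((IsLocalRing.local_hom_TFAE (algebraMap R S)).out 0 2).mpr hm.le
  have hmc : (maximalIdeal S).comap (algebraMap R S) = maximalIdeal R :=
    ((IsLocalRing.local_hom_TFAE (algebraMap R S)).out 0 4).mp hloc
  have : (maximalIdeal S).LiesOver (maximalIdeal R) := ⟨hmc.symm⟩
  rw [← IsLocalRing.maximalIdeal_height_eq_ringKrullDim, ← IsLocalRing.maximalIdeal_height_eq_ringKrullDim,
    Ideal.height_eq_height_add_of_liesOver_of_hasGoingDown (maximalIdeal R) (maximalIdeal S)]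
  have h0 : ((maximalIdeal S).map (Ideal.Quotient.mk ((maximalIdeal R).map (algebraMap R S)))) = ⊥ := by
    rw [Ideal.map_eq_bot_iff_le_ker, Ideal.mk_ker, hm]
  have : Nontrivial (S ⧸ (maximalIdeal R).map (algebraMap R S)) := by
    rw [Ideal.Quotient.nontrivial_iff, hm]; exact (maximalIdeal.isMaximal S).ne_top
  rw [h0, Ideal.height_bot, add_zero]

theorem locS_of_flat (R S : Type u) [CommRing R] [IsLocalRing R] [IsNoetherianRing R] [CommRing S]
    [IsLocalRing S] [IsNoetherianRing S] [Algebra R S] [Module.Flat R S]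
    (hm : (maximalIdeal R).map (algebraMap R S) = maximalIdeal S) (h : LocS R)
    (hreg : IsRegularLocalRing R → IsRegularLocalRing S) : LocS S := by
  haveI hloc : IsLocalHom (algebraMap R S) :=
    ((IsLocalRing.local_hom_TFAE (algebraMap R S)).out 0 2).mpr hm.le
  have hd := ringKrullDim_eq_of_flat R S hm
  exact ⟨fun h1 => hreg (h.1 (by rwa [← hd])), fun h1 => two_le_depth_of_flat R S (h.2 (by rwa [← hd]))⟩

/-- Serre's criterion. -/
theorem normal_of_locS (S : Type u) [CommRing S] [IsNoetherianRing S]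
    (h : ∀ (p : Ideal S) [p.IsPrime], LocS (Localization.AtPrime p)) (p : Ideal S) [p.IsPrime] :
    IsDomain (Localization.AtPrime p) ∧ IsIntegrallyClosed (Localization.AtPrime p) := by
  refine (Groth.Agent.S0601.result S).mpr ⟨fun q hq hh => (h q).1 ?_,
    (SerreLocal.hasSk_self_iff 2).mpr fun q hq => ?_⟩ p
  · rw [IsLocalization.AtPrime.ringKrullDim_eq_height q]
    exact_mod_cast hh
  · by_cases hd : ringKrullDim (Localization.AtPrime q) ≤ 1
    · have hd1 : q.height ≤ 1 := by
        rw [IsLocalization.AtPrime.ringKrullDim_eq_height q] at hd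
        exact_mod_cast hd
      by_cases hd0 : ringKrullDim (Localization.AtPrime q) ≤ 0
      · have hd2 : q.height ≤ 0 := by
          rw [IsLocalization.AtPrime.ringKrullDim_eq_height q] at hd0
          exact_mod_cast hd0
        exact (min_le_right _ _).trans (hd2.trans zero_le)
      · haveI := (h q).1 hd
        haveI := (SerreLocal.isPrincipalIdealRing_of_isRegularLocalRing hd).1
        exact (min_le_right _ _).trans (hd1.trans (SerreCrit.one_le_depth_of_isReduced hd0))
    · exact (min_le_left _ _).trans ((h q).2 hd)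

end Alg

section Geo

/-- The local rings of a scheme at the points of an affine open. -/
theorem nonempty_stalkEquiv {X : Scheme.{u}} {W : X.Opens} (hW : IsAffineOpen W) (x : PrimeSpectrum Γ(X, W)) :
    Nonempty (Localization.AtPrime x.asIdeal ≃+* X.presheaf.stalk (hW.fromSpec x)) := by
  letI : Algebra Γ(X, W) ((Spec Γ(X, W)).presheaf.stalk x) := StructureSheaf.stalkAlgebra Γ(X, W) x
  haveI : IsLocalization.AtPrime ((Spec Γ(X, W)).presheaf.stalk x) x.asIdeal :=
    StructureSheaf.IsLocalization.to_stalk Γ(X, W) x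
  have e1 : Localization.AtPrime x.asIdeal ≃ₐ[Γ(X, W)] (Spec Γ(X, W)).presheaf.stalk x :=
    IsLocalization.algEquiv x.asIdeal.primeCompl _ _
  have e2 : X.presheaf.stalk (hW.fromSpec x) ≃+* (Spec Γ(X, W)).presheaf.stalk x :=
    (asIso (hW.fromSpec.stalkMap x)).commRingCatIsoToRingEquiv
  exact ⟨e1.toRingEquiv.trans e2.symm⟩

/-- A locally Noetherian scheme is normal if all its local rings satisfy `LocS`. -/
theorem isNormalScheme_of_locS {X : Scheme.{u}} [IsLocallyNoetherian X] (h : ∀ x : X, LocS (X.presheaf.stalk x)) :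
    Pi1.IsNormalScheme X := by
  intro y
  obtain ⟨W, hW, hyW, -⟩ := exists_isAffineOpen_mem_and_subset (X := X) (U := ⊤) (x := y) trivial
  haveI : IsNoetherianRing Γ(X, W) := IsLocallyNoetherian.component_noetherian ⟨W, hW⟩
  obtain ⟨x, rfl⟩ : y ∈ Set.range hW.fromSpec := by
    rw [hW.range_fromSpec]; exact hyW
  obtain ⟨e⟩ := nonempty_stalkEquiv hW x
  obtain ⟨h1, h2⟩ := normal_of_locS Γ(X, W) (fun p hp => by
    obtain ⟨e'⟩ := nonempty_stalkEquiv hW ⟨p, hp⟩
    exact locS_congr e'.symm (h _)) x.asIdeal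
  exact ⟨e.toMulEquiv.symm.isDomain, IsIntegrallyClosed.of_equiv e⟩

variable (A : Type u) [CommRing A] [IsLocalRing A] [IsNoetherianRing A]
  [IsDomain (Curv2.cpl A)] [IsIntegrallyClosed (Curv2.cpl A)] {Y : Scheme.{u}} (f : Y ⟶ Spec (CommRingCat.of A))

theorem locS_stalk [LocallyOfFiniteType f] (hY : Pi1.IsNormalScheme Y)
    (hp : IsIso (Curv2.bcCplSnd A f ∣_ FEt.puncturedSpec (Curv2.cpl A))) (y : Curv2.bcCpl A f) :
    LocS ((Curv2.bcCpl A f).presheaf.stalk y) := by
  haveI hNB : IsNoetherianRing (Curv2.cpl A) := Groth.Agent.S0543.result A (maximalIdeal A)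
  haveI : IsLocallyNoetherian Y := LocallyOfFiniteType.isLocallyNoetherian f
  haveI : IsLocallyNoetherian (Curv2.bcCpl A f) := LocallyOfFiniteType.isLocallyNoetherian (Curv2.bcCplSnd A f)
  by_cases hy : Curv2.bcCplSnd A f y = closedPoint (Curv2.cpl A)
  · have h3 : f (Curv2.bcCplFst A f y) = closedPoint A := by
      have h5 : (Curv2.bcCplFst A f ≫ f) y = (Curv2.bcCplSnd A f ≫
          Spec.map (CommRingCat.ofHom (algebraMap A (Curv2.cpl A)))) y := by
        rw [pullback.condition]
      rw [Scheme.Hom.comp_apply, Scheme.Hom.comp_apply, hy] at h5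
      rw [h5]
      exact comap_closedPoint (algebraMap A (Curv2.cpl A))
    letI := ((Curv2.bcCplFst A f).stalkMap y).hom.toAlgebra
    haveI : Module.Flat (Y.presheaf.stalk (Curv2.bcCplFst A f y)) ((Curv2.bcCpl A f).presheaf.stalk y) :=
      Flat.stalkMap (Curv2.bcCplFst A f) y
    haveI := (hY (Curv2.bcCplFst A f y)).1
    haveI := (hY (Curv2.bcCplFst A f y)).2
    exact locS_of_flat (Y.presheaf.stalk (Curv2.bcCplFst A f y)) _
      (Groth.Agent.CurvesC.RegCompl.map_maximalIdeal_stalkMap_bcCplFst A f y h3) (locS_of_normal _)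
      (fun hreg => Groth.Agent.CurvesC.RegCompl.isRegularLocalRing_stalk_bcCpl A f y h3 hreg)
  · have hmem : y ∈ Curv2.bcCplSnd A f ⁻¹ᵁ FEt.puncturedSpec (Curv2.cpl A) := hy
    have h2 : IsIso ((Curv2.bcCplSnd A f ∣_ FEt.puncturedSpec (Curv2.cpl A)).stalkMap ⟨y, hmem⟩) := inferInstance
    have h3 : IsIso ((Curv2.bcCplSnd A f).stalkMap y) :=
      ((MorphismProperty.isomorphisms CommRingCat).arrow_mk_iso_iff
        (morphismRestrictStalkMap (Curv2.bcCplSnd A f) (FEt.puncturedSpec (Curv2.cpl A)) ⟨y, hmem⟩)).mp h2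
    have e : (Spec (CommRingCat.of (Curv2.cpl A))).presheaf.stalk (Curv2.bcCplSnd A f y) ≃+*
        (Curv2.bcCpl A f).presheaf.stalk y :=
      (asIso ((Curv2.bcCplSnd A f).stalkMap y)).commRingCatIsoToRingEquiv
    refine locS_congr e ?_
    let z := Curv2.bcCplSnd A f y
    letI : Algebra (Curv2.cpl A) ((Spec (CommRingCat.of (Curv2.cpl A))).presheaf.stalk z) :=
      StructureSheaf.stalkAlgebra (Curv2.cpl A) z
    haveI : IsLocalization.AtPrime ((Spec (CommRingCat.of (Curv2.cpl A))).presheaf.stalk z) z.asIdeal :=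
      StructureSheaf.IsLocalization.to_stalk (Curv2.cpl A) z
    haveI : IsDomain ((Spec (CommRingCat.of (Curv2.cpl A))).presheaf.stalk z) :=
      IsLocalization.isDomain_of_atPrime _ z.asIdeal
    haveI : IsIntegrallyClosed ((Spec (CommRingCat.of (Curv2.cpl A))).presheaf.stalk z) :=
      isIntegrallyClosed_of_isLocalization _ z.asIdeal.primeCompl (Ideal.primeCompl_le_nonZeroDivisors z.asIdeal)
    haveI : IsNoetherianRing ((Spec (CommRingCat.of (Curv2.cpl A))).presheaf.stalk z) :=
      IsLocalization.isNoetherianRing z.asIdeal.primeCompl _ hNB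
    exact locS_of_normal _

end Geo

open Groth.Agent.CurvesC.Modif in
/-- **The base change to a normal completion of a normal modification is a normal modification.** -/
theorem isNormal_bcCpl (A : Type u) [CommRing A] [IsDomain A] [IsLocalRing A] [IsNoetherianRing A]
    [IsIntegrallyClosed A] (hdim : ringKrullDim A = 2) [IsDomain (Curv2.cpl A)] [IsIntegrallyClosed (Curv2.cpl A)]
    {Y : Scheme.{u}} (f : Y ⟶ Spec (CommRingCat.of A)) (hf : IsModif f) (hY : Pi1.IsNormalScheme Y) :
    IsModif (Curv2.bcCplSnd A f) ∧ IsIso (Curv2.bcCplSnd A f ∣_ FEt.puncturedSpec (Curv2.cpl A)) ∧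
      Pi1.IsNormalScheme (Curv2.bcCpl A f) := by
  obtain ⟨h1, h2⟩ := K67.CplInt.isModif_bcCplSnd A hdim f hf
  haveI := hf.proper
  haveI hNB : IsNoetherianRing (Curv2.cpl A) := Groth.Agent.S0543.result A (maximalIdeal A)
  haveI : IsLocallyNoetherian (Curv2.bcCpl A f) := LocallyOfFiniteType.isLocallyNoetherian (Curv2.bcCplSnd A f)
  exact ⟨h1, h2, isNormalScheme_of_locS (locS_stalk A f hY h2)⟩

end K67.CplNormal
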