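import Mathlib.AlgebraicGeometry.Morphisms.Flat
import Mathlib.AlgebraicGeometry.Morphisms.Proper
import Mathlib.AlgebraicGeometry.FunctionField
import Mathlib.AlgebraicGeometry.Restrict

/-!
# Flat base change of a birational morphism from an integral scheme

`f : X ⟶ S` with `X` integral, an isomorphism over `S_t ≠ ∅`, `g : S' ⟶ S` flat with `S'` integral and `g^* t ≠ 0`:
then `X ×_S S'` is integral.
-/

set_option autoImplicit false
universe u

open CategoryTheory CategoryTheory.Limits AlgebraicGeometry TopologicalSpace Opposite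

namespace K67.IntBC

variable {X S S' X' : Scheme.{u}}

/-- A section on `X'` (flat over the integral `X`) vanishing where `t` is invertible is zero. -/
theorem eq_zero_of_res (g' : X' ⟶ X) [Flat g'] [IsIntegral X] (t : Γ(X, ⊤)) (ht : t ≠ 0)
    (O O' : X'.Opens) (hle : O' ≤ O) (h : O ⊓ X'.basicOpen (g'.appTop t) ≤ O') (s : Γ(X', O))
    (hs : X'.presheaf.map (homOfLE hle).op s = 0) : s = 0 := by
  apply TopCat.Presheaf.section_ext X'.sheaf
  intro y hy
  refine Eq.trans ?_ (map_zero (X'.presheaf.germ _ y hy).hom).symm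
  obtain ⟨V, hV, hyV, -⟩ := exists_isAffineOpen_mem_and_subset (X := X) (U := ⊤) (x := g' y) trivial
  obtain ⟨W, hW, hyW, hWle⟩ := exists_isAffineOpen_mem_and_subset (X := X') (U := g' ⁻¹ᵁ V ⊓ O) (x := y) ⟨hyV, hy⟩
  have hWV : W ≤ g' ⁻¹ᵁ V := fun z hz => (hWle hz).1
  have hWO : W ≤ O := fun z hz => (hWle hz).2
  let sW : Γ(X', W) := X'.presheaf.map (homOfLE hWO).op s
  let tV : Γ(X, V) := X.presheaf.map (homOfLE le_top).op t
  let tW : Γ(X', W) := g'.appLE V W hWV tV
  haveI : Nonempty V := ⟨⟨_, hyV⟩⟩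
  have htV : tV ≠ 0 := by
    intro h0
    apply ht
    apply map_injective_of_isIntegral X (homOfLE (le_top : V ≤ ⊤))
    rw [map_zero]
    exact h0
  have htW : tW = X'.presheaf.map (homOfLE (le_top : W ≤ ⊤)).op (g'.appTop t) := by
    change (X.presheaf.map (homOfLE le_top).op ≫ g'.appLE V W hWV) t =
      (g'.appTop ≫ X'.presheaf.map (homOfLE (le_top : W ≤ ⊤)).op) t
    rw [Scheme.Hom.map_appLE]
    rfl
  have hbW : X'.basicOpen tW ≤ O' := by
    rw [htW, Scheme.basicOpen_res]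
    intro z hz
    exact h ⟨hWO hz.1, hz.2⟩
  have hs0 : X'.presheaf.map (homOfLE (X'.basicOpen_le tW)).op sW = 0 := by
    have e1 : X'.presheaf.map (homOfLE (X'.basicOpen_le tW)).op sW =
        X'.presheaf.map (homOfLE hbW).op (X'.presheaf.map (homOfLE hle).op s) := by
      change (X'.presheaf.map (homOfLE hWO).op ≫ X'.presheaf.map (homOfLE (X'.basicOpen_le tW)).op) s =
        (X'.presheaf.map (homOfLE hle).op ≫ X'.presheaf.map (homOfLE hbW).op) s
      rw [← X'.presheaf.map_comp, ← X'.presheaf.map_comp]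
      rfl
    rw [e1, hs, map_zero]
  have hflat : (g'.appLE V W hWV).hom.Flat := g'.flat_appLE hV hW hWV
  have hreg : ∀ r : Γ(X', W), tW * r = 0 → r = 0 := by
    letI := (g'.appLE V W hWV).hom.toAlgebra
    have hfl : Module.Flat Γ(X, V) Γ(X', W) := hflat
    have h1 : IsSMulRegular Γ(X, V) tV :=
      (isRegular_iff_mem_nonZeroDivisors.mpr (mem_nonZeroDivisors_of_ne_zero htV)).1
    have h2 : IsSMulRegular Γ(X', W) (algebraMap Γ(X, V) Γ(X', W) tV) := IsSMulRegular.of_flat h1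
    intro r hr
    apply h2
    simp only [smul_zero]
    exact hr
  obtain ⟨n, hn⟩ := exists_pow_mul_eq_zero_of_res_basicOpen_eq_zero_of_isAffineOpen _ hW sW tW hs0
  have hsW : sW = 0 := by
    clear hs0
    induction n with
    | zero => simpa using hn
    | succ n ih => exact ih (hreg _ (by rw [← mul_assoc, ← pow_succ']; exact hn))
  have h3 := X'.presheaf.germ_res_apply (homOfLE hWO) y hyW s
  refine h3.symm.trans ?_
  change X'.presheaf.germ W y hyW sW = 0
  rw [hsW, map_zero]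

theorem isIso_base {X Y T Z : Scheme.{u}} {f : X ⟶ Y} {j : T ⟶ Y} {q : Z ⟶ X} {p : Z ⟶ T}
    (H : IsPullback q p f j) (V : Y.Opens) (hV : IsIso (f ∣_ V)) : IsIso (p ∣_ (j ⁻¹ᵁ V)) := by
  have h1 : IsPullback (p ⁻¹ᵁ (j ⁻¹ᵁ V)).ι (p ∣_ (j ⁻¹ᵁ V)) p (j ⁻¹ᵁ V).ι :=
    (isPullback_morphismRestrict p (j ⁻¹ᵁ V)).flip
  have h2 := h1.paste_horiz H
  have h3 : IsPullback (f ⁻¹ᵁ V).ι (f ∣_ V) f V.ι := (isPullback_morphismRestrict f V).flip
  have w : ((p ⁻¹ᵁ (j ⁻¹ᵁ V)).ι ≫ q) ≫ f = ((p ∣_ (j ⁻¹ᵁ V)) ≫ (j ∣_ V)) ≫ V.ι := by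
    rw [h2.w, Category.assoc, morphismRestrict_ι]
  have h4 : IsPullback (h3.lift _ _ w) (p ∣_ (j ⁻¹ᵁ V)) (f ∣_ V) (j ∣_ V) := by
    refine IsPullback.of_right ?_ (h3.lift_snd _ _ w) h3
    rw [h3.lift_fst, morphismRestrict_ι]
    exact h2
  exact MorphismProperty.of_isPullback (P := MorphismProperty.isomorphisms Scheme) h4 hV

theorem isIntegral_of_isPullback {f : X ⟶ S} {g : S' ⟶ S} {g' : X' ⟶ X} {f' : X' ⟶ S'}
    (H : IsPullback g' f' f g) [Flat g] [IsIntegral X] [IsIntegral S'] (t : Γ(S, ⊤))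
    (ht : f.appTop t ≠ 0) (ht' : g.appTop t ≠ 0) (hiso : IsIso (f ∣_ S.basicOpen t)) : IsIntegral X' := by
  haveI : Flat g' := MorphismProperty.of_isPullback H.flip inferInstance
  let D : S'.Opens := g ⁻¹ᵁ S.basicOpen t
  have hD : D = S'.basicOpen (g.appTop t) := Scheme.preimage_basicOpen_top g t
  have hDne : ((D : S'.Opens) : Set S').Nonempty := by
    by_contra hcon
    rw [Set.not_nonempty_iff_eq_empty] at hcon
    apply ht'
    rw [← basicOpen_eq_bot_iff, ← hD]
    exact Opens.ext hcon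
  haveI hE : IsIso (f' ∣_ D) := isIso_base H _ hiso
  let E : X'.Opens := f' ⁻¹ᵁ D
  haveI : Nonempty D.toScheme := by
    obtain ⟨d, hd⟩ := hDne
    exact ⟨⟨d, hd⟩⟩
  haveI : IsIntegral D.toScheme := inferInstance
  haveI : Nonempty E.toScheme := by
    obtain ⟨d⟩ : Nonempty D.toScheme := inferInstance
    exact ⟨(inv (f' ∣_ D)) d⟩
  haveI : IsIntegral E.toScheme := isIntegral_of_isOpenImmersion (f' ∣_ D)
  have hEb : E = X'.basicOpen (g'.appTop (f.appTop t)) := by
    have h1 : g'.appTop (f.appTop t) = f'.appTop (g.appTop t) := by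
      have h2 : (g' ≫ f).appTop t = (f' ≫ g).appTop t := by rw [H.w]
      rw [Scheme.Hom.comp_appTop, Scheme.Hom.comp_appTop] at h2
      exact h2
    rw [h1, ← Scheme.preimage_basicOpen_top, ← hD]
  have hinj : ∀ U : X'.Opens, Function.Injective (E.ι.app U) := by
    intro U
    rw [injective_iff_map_eq_zero]
    intro s hs
    refine eq_zero_of_res g' (f.appTop t) ht U (E.ι ''ᵁ (E.ι ⁻¹ᵁ U)) (E.ι.image_preimage_le U) ?_ s ?_
    · rw [← hEb, Scheme.Hom.image_preimage_eq_opensRange_inf, Scheme.Opens.opensRange_ι, inf_comm]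
    · rw [Scheme.Opens.ι_app] at hs
      exact hs
  refine { nonempty := ?_, component_integral := ?_ }
  · obtain ⟨e⟩ : Nonempty E.toScheme := inferInstance
    exact ⟨E.ι e⟩
  · intro U hU
    haveI : Nonempty (E.ι ⁻¹ᵁ U) := by
      by_contra hcon
      have h1 : E.ι ⁻¹ᵁ U = ⊥ := by
        rw [eq_bot_iff]
        intro x hx
        exact (hcon ⟨⟨x, hx⟩⟩).elim
      haveI : Subsingleton Γ(E.toScheme, E.ι ⁻¹ᵁ U) := by rw [h1]; infer_instance
      haveI : Subsingleton Γ(X', U) := (hinj U).subsingleton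
      obtain ⟨⟨x, hx⟩⟩ := hU
      have h2 : X'.presheaf.germ U x hx 1 = X'.presheaf.germ U x hx 0 := congrArg _ (Subsingleton.elim _ _)
      rw [map_one, map_zero] at h2
      exact one_ne_zero h2
    haveI : IsDomain Γ(E.toScheme, E.ι ⁻¹ᵁ U) := inferInstance
    exact (hinj U).isDomain (E.ι.app U).hom

end K67.IntBC
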