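import Groth.Agent.Resolve.K67.CplInt
import Groth.Agent.Models.K380.Bir
import Groth.Agent.Coh.K415.LerayGen
import Groth.Agent.Resolve.K374.PtFib
import Groth.Agent.Resolve.K372.AdmDesc
import Groth.Agent.S1274
import Groth.Agent.S0034
import Groth.Agent.S0547
import Groth.Agent.S0543
import Groth.Agent.Ega3B.PullTensor
import Groth.Agent.CurvesC.Modif
import Groth.Agent.VarietyA.EulerLES
import Groth.Agent.CurvesB.UnitCoh

/-!
# Rational singularities pass to normal completions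
-/

set_option autoImplicit false
universe u

open CategoryTheory CategoryTheory.Limits AlgebraicGeometry TopologicalSpace Opposite IsLocalRing

namespace K67.RatCpl

open Groth.Agent Groth.Agent.CurvesC.Modif

/-- `H^1(X, O)` injects into `H^1(Z, O)` for `q : Z ⟶ X` proper birational, `X` normal. -/
theorem subsingleton_H1_of_bir {B : Type u} [CommRing B] {X Z : Scheme.{u}} (f : X ⟶ Spec (CommRingCat.of B))
    (q : Z ⟶ X) [IsIntegral X] [IsIntegral Z] [IsProper q] (hX : Pi1.IsNormalScheme X)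
    (V : X.Opens) (hV : (V : Set X).Nonempty) (hq : IsIso (q ∣_ V))
    (h : Subsingleton (Coh.HH Z (Coh.structureModule Z) 1)) :
    Subsingleton (Coh.HH X (Coh.structureModule X) 1) := by
  letI : X.Over (Spec (CommRingCat.of B)) := ⟨f⟩
  letI : Z.Over (Spec (CommRingCat.of B)) := ⟨q ≫ f⟩
  have h1 : ∀ U : X.Opens, IsIso (q.app U) :=
    K380.Bir.isIso_app q (fun y => (hX y).2) (K380.Bir.gen q V hV hq) (K380.Bir.bir q V hV hq)
  haveI h2 : IsIso (ClSub.unitToPush q) := K380.Bir.isIso_unitToPush q h1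
  obtain ⟨φ, hφ⟩ := K415.LerayGen.exists_injective_one q B rfl (Coh.structureModule Z)
  haveI : Subsingleton (Coh.HH X ((Scheme.Modules.pushforward q).obj (Coh.structureModule Z)) 1) := hφ.subsingleton
  exact (VarietyA.EulerLES.equivA B (asIso (ClSub.unitToPush q)) 1).injective.subsingleton

/-- flat base change of the vanishing of `H^1(O)` -/
theorem subsingleton_H1_bc {A B : Type u} [CommRing A] [CommRing B] [Algebra A B] [Module.Flat A B]
    {Y Z : Scheme.{u}} [CompactSpace Y] [QuasiSeparatedSpace Y] (f : Y ⟶ Spec (CommRingCat.of A))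
    (f' : Z ⟶ Spec (CommRingCat.of B)) (g' : Z ⟶ Y)
    (H : IsPullback g' f' f (Spec.map (CommRingCat.ofHom (algebraMap A B))))
    (h : Subsingleton (Coh.HH Y (Coh.structureModule Y) 1)) :
    Subsingleton (Coh.HH Z (Coh.structureModule Z) 1) := by
  letI : Y.Over (Spec (CommRingCat.of A)) := ⟨f⟩
  letI : Z.Over (Spec (CommRingCat.of B)) := ⟨f'⟩
  haveI : Coh.IsQCoh (Coh.structureModule Y) := (CurvesB.UnitCoh.isCoh_structureModule Y).1
  obtain ⟨e⟩ := Groth.Agent.S0034.result A B Y Z g' H (Coh.structureModule Y) 1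
  obtain ⟨e2⟩ := Ega3B.PullTensor.nonempty_pullUnitIso g'
  haveI : Subsingleton (TensorProduct A B (Coh.HH Y (Coh.structureModule Y) 1)) := inferInstance
  haveI : Subsingleton (Coh.HH Z ((Scheme.Modules.pullback g').obj (Coh.structureModule Y)) 1) :=
    e.symm.injective.subsingleton
  exact (VarietyA.EulerLES.equivA B e2 1).symm.injective.subsingleton

theorem idealSheaf_ne_bot {A : Type u} [CommRing A] {I : Ideal A} (hI : I ≠ ⊥) : Curv2.idealSheaf A I ≠ ⊥ := by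
  intro h
  apply hI
  have h1 : (Curv2.idealSheaf A I).ideal ⟨⊤, isAffineOpen_top _⟩ =
      I.map (Scheme.ΓSpecIso (CommRingCat.of A)).inv.hom := by
    unfold Curv2.idealSheaf
    simp
  rw [h, Scheme.IdealSheafData.ideal_bot, Pi.bot_apply] at h1
  exact (Ideal.map_eq_bot_iff_of_injective
    (ConcreteCategory.bijective_of_isIso (Scheme.ΓSpecIso (CommRingCat.of A)).inv).1).mp h1.symm

theorem main (A : Type u) [CommRing A] [IsDomain A] [IsLocalRing A] [IsNoetherianRing A]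
    [IsIntegrallyClosed A] (hN : CAlg.IsNagata A) (hdim : ringKrullDim A = 2) (hA : Curv2.IsRationalSing A)
    [IsDomain (Curv2.cpl A)] [IsIntegrallyClosed (Curv2.cpl A)] : Curv2.IsRationalSing (Curv2.cpl A) := by
  intro X f hfp hXi hXn hbir
  haveI hNB : IsNoetherianRing (Curv2.cpl A) := Groth.Agent.S0543.result A (maximalIdeal A)
  have hdimB : ringKrullDim (Curv2.cpl A) = 2 := by
    rw [← hdim]; exact Groth.Agent.S0547.result A
  haveI hpun : IsIso (f ∣_ FEt.puncturedSpec (Curv2.cpl A)) := K374.PtFib.isIso_punctured f hdimB hbir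
  haveI hNS : IsNoetherian (Spec (CommRingCat.of (Curv2.cpl A))) := inferInstance
  obtain ⟨J0, X₁, b, hb, hadm, h, hh⟩ := Groth.Agent.S1274.result f (FEt.puncturedSpec (Curv2.cpl A))
    (TopologicalSpace.NoetherianSpace.isCompact _)
  obtain ⟨J, rfl⟩ := K372.AdmDesc.exists_eq_idealSheaf J0
  obtain ⟨n, hn⟩ := (K372.AdmDesc.isAdmissibleFor_puncturedSpec_iff J).mp hadm
  obtain ⟨I, Y0, b0, hI, -, hb0, e, he⟩ := K372.AdmDesc.exists_descend A b J n hn hb
  -- an element of the maximal ideal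
  obtain ⟨t, htm, ht0⟩ := K67.CplInt.exists_mem_ne_zero hdim
  have hadm1 : BlowUp.IsAdmissibleFor (FEt.puncturedSpec A) (Curv2.idealSheaf A I) :=
    (K372.AdmDesc.isAdmissibleFor_puncturedSpec_iff I).mpr ⟨n, hI⟩
  have hI0 : I ≠ ⊥ := by
    intro h0
    have h1 := hI (Ideal.pow_mem_pow htm n)
    rw [h0] at h1
    exact ht0 (eq_zero_of_pow_eq_zero (n := n) h1)
  have hmod0 : IsModif b0 := IsModif.of_isBlowUp (idealSheaf_ne_bot hI0) hadm1.1 hb0
  obtain ⟨Y, ν, hν, hνf, hYn⟩ := hmod0.exists_normalization hN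
  have hmod1 := hν.comp hmod0
  haveI := hmod1.proper
  haveI := hmod1.integral
  haveI := hmod1.surjective
  have hH1 : Subsingleton (Coh.HH Y (Coh.structureModule Y) 1) :=
    hA Y (ν ≫ b0) hmod1.proper hmod1.integral hYn hmod1.exists_isIso
  obtain ⟨hmodZ, hpunZ⟩ := K67.CplInt.isModif_bcCplSnd A hdim (ν ≫ b0) hmod1
  have H := K67.CplInt.isPullback_bcCpl A (ν ≫ b0)
  haveI : CompactSpace Y := QuasiCompact.compactSpace_of_compactSpace (ν ≫ b0)
  haveI : QuasiSeparatedSpace Y := quasiSeparatedSpace_of_quasiSeparated (ν ≫ b0)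
  have hZ1 : Subsingleton (Coh.HH (Curv2.bcCpl A (ν ≫ b0)) (Coh.structureModule (Curv2.bcCpl A (ν ≫ b0))) 1) :=
    subsingleton_H1_bc (ν ≫ b0) (Curv2.bcCplSnd A (ν ≫ b0)) (Curv2.bcCplFst A (ν ≫ b0)) H hH1
  haveI hZi : IsIntegral (Curv2.bcCpl A (ν ≫ b0)) := hmodZ.integral
  -- the morphism to `X`
  have hw : (Curv2.bcCplFst A (ν ≫ b0) ≫ ν) ≫ b0 = Curv2.bcCplSnd A (ν ≫ b0) ≫ K67.CplInt.gcpl A := by
    rw [Category.assoc]; exact H.w
  let r : Curv2.bcCpl A (ν ≫ b0) ⟶ Curv2.bcCpl A b0 :=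
    pullback.lift (Curv2.bcCplFst A (ν ≫ b0) ≫ ν) (Curv2.bcCplSnd A (ν ≫ b0)) hw
  have hr : r ≫ Curv2.bcCplSnd A b0 = Curv2.bcCplSnd A (ν ≫ b0) := pullback.lift_snd _ _ _
  let q : Curv2.bcCpl A (ν ≫ b0) ⟶ X := r ≫ e.inv ≫ h
  have hq : q ≫ f = Curv2.bcCplSnd A (ν ≫ b0) := by
    have h1 : q ≫ f = r ≫ e.inv ≫ h ≫ f := by simp only [q, Category.assoc]
    rw [h1, hh, ← he, Iso.inv_hom_id_assoc, hr]
  haveI : IsProper (q ≫ f) := by rw [hq]; infer_instance
  haveI hqp : IsProper q := IsProper.of_comp q f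
  -- birationality
  have hqfU : IsIso ((q ≫ f) ∣_ FEt.puncturedSpec (Curv2.cpl A)) := by
    rw [hq]
    exact hpunZ
  have hqU : IsIso (q ∣_ (f ⁻¹ᵁ FEt.puncturedSpec (Curv2.cpl A))) := by
    rw [morphismRestrict_comp] at hqfU
    exact @IsIso.of_isIso_comp_right _ _ _ _ _ (q ∣_ (f ⁻¹ᵁ FEt.puncturedSpec (Curv2.cpl A)))
      (f ∣_ FEt.puncturedSpec (Curv2.cpl A)) hpun hqfU
  have hUne : ((f ⁻¹ᵁ FEt.puncturedSpec (Curv2.cpl A) : X.Opens) : Set X).Nonempty := by
    obtain ⟨s, hsm, hs0⟩ := K67.CplInt.exists_mem_ne_zero hdimB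
    have hη : (⟨⊥, Ideal.isPrime_bot⟩ : PrimeSpectrum (Curv2.cpl A)) ∈ FEt.puncturedSpec (Curv2.cpl A) := by
      intro h0
      have h1 : (⊥ : Ideal (Curv2.cpl A)) = maximalIdeal (Curv2.cpl A) := congrArg PrimeSpectrum.asIdeal h0
      rw [← h1] at hsm
      exact hs0 hsm
    exact ⟨((inv (f ∣_ FEt.puncturedSpec (Curv2.cpl A))) ⟨_, hη⟩).1,
      ((inv (f ∣_ FEt.puncturedSpec (Curv2.cpl A))) ⟨_, hη⟩).2⟩
  exact subsingleton_H1_of_bir f q hXn (f ⁻¹ᵁ FEt.puncturedSpec (Curv2.cpl A)) hUne hqU hZ1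

end K67.RatCpl
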